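import Cfsg.Agent.Lib.Spor.GLTwoAmalgam.EOne.Part0

/-!
The case `[n, m]` of order four: the assembled checks.
-/

set_option autoImplicit false

namespace CfsgLib.Spor.GLTwoAmalgam.EOne

open CfsgLib.Spor.TC

theorem steps_ok : cert.SStepsOK 0 431 :=
  steps0

set_option maxRecDepth 100000 in
theorem trace : cert.sTraceOK 431 target 0x35e = true := by decide +kernel

end CfsgLib.Spor.GLTwoAmalgam.EOne
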